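import Groth.Prelude.Def_VecGrp
import Mathlib.AlgebraicGeometry.Morphisms.Flat
import Mathlib.AlgebraicGeometry.Morphisms.QuasiCompact
import Mathlib.RingTheory.TensorProduct.Pi
import Mathlib.LinearAlgebra.TensorProduct.Pi
import Mathlib.LinearAlgebra.TensorProduct.RightExactness
import Mathlib.RingTheory.Localization.BaseChange
import Mathlib.RingTheory.Flat.Basic
import Mathlib.RingTheory.Noetherian.Basic

/-!
A finitely generated submodule of a module with an action of a flat quasi-compact group scheme over a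
noetherian ring is contained in a finitely generated stable one.
-/

set_option autoImplicit false
set_option backward.isDefEq.respectTransparency.types false
set_option linter.style.haveILetI false

universe u

open CategoryTheory MonoidalCategory CartesianMonoidalCategory MonObj AlgebraicGeometry
open scoped TensorProduct
open VecGrp

noncomputable section

namespace Groth.L15.GModStable

theorem eq_zero_of_local {R : Type u} [CommRing R] {B : Type u} [CommRing B] [Algebra R B]
    {Q : Type u} [AddCommGroup Q] [Module R Q] (y : B ⊗[R] Q)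
    (h : ∀ p : PrimeSpectrum B, ∃ f : B, f ∉ p.asIdeal ∧
      Wmap (M := Q) (IsScalarTower.toAlgHom R B (Localization.Away f)) y = 0) : y = 0 := by
  by_contra hy
  let I : Ideal B := LinearMap.ker (LinearMap.toSpanSingleton B (B ⊗[R] Q) y)
  have hI : I ≠ ⊤ := fun hI => hy (by
    have h1 : (1 : B) ∈ I := by rw [hI]; trivial
    simpa [I] using h1)
  obtain ⟨p, hp, hIp⟩ := Ideal.exists_le_maximal I hI
  obtain ⟨f, hf, h0⟩ := h ⟨p, hp.isPrime⟩
  have key : ∀ z : B ⊗[R] Q, TensorProduct.AlgebraTensorModule.cancelBaseChange R B B (Localization.Away f) Q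
      ((TensorProduct.mk B (Localization.Away f) (B ⊗[R] Q)) 1 z) =
      Wmap (M := Q) (IsScalarTower.toAlgHom R B (Localization.Away f)) z := by
    intro z
    induction z using TensorProduct.induction_on with
    | zero => simp
    | tmul b q => simp [Algebra.smul_def]
    | add a b ha hb => simp only [map_add, ha, hb]
  have h1 : (TensorProduct.mk B (Localization.Away f) (B ⊗[R] Q)) 1 y = 0 :=
    (TensorProduct.AlgebraTensorModule.cancelBaseChange R B B (Localization.Away f) Q).injective
      (by rw [key, h0, map_zero])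
  obtain ⟨⟨s, n, rfl⟩, hs⟩ := (IsLocalizedModule.eq_zero_iff (Submonoid.powers f)
    ((TensorProduct.mk B (Localization.Away f) (B ⊗[R] Q)) 1)).1 h1
  exact hf (hp.isPrime.mem_of_pow_mem n (hIp (by simpa [I, Submonoid.smul_def] using hs)))

theorem mem_range_iff {R : Type u} [CommRing R] {B : Type u} [CommRing B] [Algebra R B]
    {E : Type u} [AddCommGroup E] [Module R E] (N : Submodule R E) (z : B ⊗[R] E) :
    z ∈ LinearMap.range (N.subtype.baseChange B) ↔ N.mkQ.baseChange B z = 0 :=
  (lTensor_exact B (LinearMap.exact_subtype_mkQ N) N.mkQ_surjective z).symm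

theorem Wmap_baseChange {R : Type u} [CommRing R] {B B' : Type u} [CommRing B] [Algebra R B]
    [CommRing B'] [Algebra R B'] {E Q : Type u} [AddCommGroup E] [Module R E] [AddCommGroup Q] [Module R Q]
    (φ : B →ₐ[R] B') (f : E →ₗ[R] Q) (z : B ⊗[R] E) :
    Wmap (M := Q) φ (f.baseChange B z) = f.baseChange B' (Wmap (M := E) φ z) := by
  induction z using TensorProduct.induction_on with
  | zero => simp
  | tmul b e => simp
  | add a b ha hb => simp only [map_add, ha, hb]

theorem exists_fg_mem_range {R : Type u} [CommRing R] {B : Type u} [CommRing B] [Algebra R B]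
    {E : Type u} [AddCommGroup E] [Module R E] (z : B ⊗[R] E) :
    ∃ N : Submodule R E, N.FG ∧ ∀ N', N ≤ N' → N'.mkQ.baseChange B z = 0 := by
  induction z using TensorProduct.induction_on with
  | zero => exact ⟨⊥, Submodule.fg_bot, fun _ _ => map_zero _⟩
  | tmul b e =>
    refine ⟨Submodule.span R {e}, Submodule.fg_span_singleton e, fun N' h => ?_⟩
    have he : N'.mkQ e = 0 := (Submodule.Quotient.mk_eq_zero _).2 (h (Submodule.mem_span_singleton_self e))
    rw [LinearMap.baseChange_tmul, he, TensorProduct.tmul_zero]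
  | add a b ha hb =>
    obtain ⟨N, hN, h⟩ := ha
    obtain ⟨N', hN', h'⟩ := hb
    refine ⟨N ⊔ N', hN.sup hN', fun N'' h'' => ?_⟩
    rw [map_add, h _ (le_sup_left.trans h''), h' _ (le_sup_right.trans h''), add_zero]

variable {R : Type u} [CommRing R] {G : Over (Spec (CommRingCat.of R))} [GrpObj G]
variable {E : Type u} [AddCommGroup E] [Module R E] (m : GMod G E)

/-- A chart of a group scheme. -/
structure Chart (G : Over (Spec (CommRingCat.of R))) where
  A : Type u
  [ring : CommRing A]
  [alg : Algebra R A]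
  g : pt R A ⟶ G

attribute [instance] Chart.ring Chart.alg

theorem exists_charts [Flat G.hom] [QuasiCompact G.hom] :
    ∃ (n : ℕ) (c : Fin n → Chart G), (∀ i, Module.Flat R (c i).A) ∧
      ∀ (B : Type u) [CommRing B] [Algebra R B] (g : pt R B ⟶ G) (p : PrimeSpectrum B),
        ∃ f : B, f ∉ p.asIdeal ∧ ∃ (i : Fin n) (ψ : (c i).A →ₐ[R] Localization.Away f),
          ptMap (IsScalarTower.toAlgHom R B (Localization.Away f)) ≫ g = ptMap ψ ≫ (c i).g := by
  classical
  haveI : CompactSpace G.left := QuasiCompact.compactSpace_of_compactSpace G.hom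
  let 𝒰 := G.left.affineOpenCover
  obtain ⟨s, hs⟩ := isCompact_univ.elim_finite_subcover (fun j => Set.range (𝒰.f j).base)
    (fun j => (𝒰.f j).isOpenEmbedding.isOpen_range)
    (fun x _ => Set.mem_iUnion.2 ⟨𝒰.idx x, 𝒰.covers x⟩)
  let φ : ∀ j, CommRingCat.of R ⟶ 𝒰.X j := fun j => Spec.preimage (𝒰.f j ≫ G.hom)
  have hφ : ∀ j, Spec.map (φ j) = 𝒰.f j ≫ G.hom := fun j => Spec.map_preimage _
  let c : ∀ j, Chart G := fun j =>
    letI : Algebra R (𝒰.X j) := (φ j).hom.toAlgebra
    { A := 𝒰.X j
      ring := inferInstance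
      alg := (φ j).hom.toAlgebra
      g := Over.homMk (𝒰.f j) (by
        show 𝒰.f j ≫ G.hom = Spec.map (CommRingCat.ofHom (algebraMap R (𝒰.X j)))
        rw [← hφ]; rfl) }
  refine ⟨s.card, fun i => c (s.equivFin.symm i).1, fun i => ?_, fun B _ _ g p => ?_⟩
  · have h : Flat (Spec.map (φ (s.equivFin.symm i).1)) := by rw [hφ]; infer_instance
    exact Flat.SpecMap_iff.1 h
  · obtain ⟨j, hj, hx⟩ := Set.mem_iUnion₂.1 (hs (Set.mem_univ (g.left.base p)))
    have hU : IsOpen (g.left.base ⁻¹' Set.range (𝒰.f j).base) :=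
      (𝒰.f j).isOpenEmbedding.isOpen_range.preimage g.left.continuous
    obtain ⟨_, ⟨f, rfl⟩, hpf, hfU⟩ :=
      (PrimeSpectrum.isTopologicalBasis_basic_opens (R := B)).exists_subset_of_mem_open hx hU
    obtain ⟨i, rfl⟩ : ∃ i, (s.equivFin.symm i).1 = j := ⟨s.equivFin ⟨j, hj⟩, by rw [Equiv.symm_apply_apply]⟩
    let j := (s.equivFin.symm i).1
    refine ⟨f, hpf, i, ?_⟩
    let ℓ := IsScalarTower.toAlgHom R B (Localization.Away f)
    have hr : Set.range (ptMap ℓ ≫ g).left.base ⊆ Set.range (𝒰.f j).base := by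
      rintro _ ⟨q, rfl⟩
      have h1 : (Spec.map (CommRingCat.ofHom (algebraMap B (Localization.Away f)))).base q ∈
          (PrimeSpectrum.basicOpen f : Set (PrimeSpectrum B)) := by
        have := PrimeSpectrum.localization_away_comap_range (Localization.Away f) f
        exact this.le ⟨q, rfl⟩
      exact hfU h1
    let l := IsOpenImmersion.lift (𝒰.f j) (ptMap ℓ ≫ g).left hr
    have hl : l ≫ 𝒰.f j = (ptMap ℓ ≫ g).left := IsOpenImmersion.lift_fac _ _ _
    letI : Algebra R (𝒰.X j) := (φ j).hom.toAlgebra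
    have hc : φ j ≫ Spec.preimage l = CommRingCat.ofHom (algebraMap R (Localization.Away f)) := by
      apply Spec.map_injective
      rw [Spec.map_comp, Spec.map_preimage, hφ, reassoc_of% hl]
      exact Over.w (ptMap ℓ ≫ g)
    let ψ : 𝒰.X j →ₐ[R] Localization.Away f :=
      AlgHom.mk (Spec.preimage l).hom fun r => congrArg (fun w => w.hom r) hc
    refine ⟨ψ, Over.OverMorphism.ext ?_⟩
    show (ptMap ℓ ≫ g).left = Spec.map (Spec.preimage l) ≫ 𝒰.f j
    rw [Spec.map_preimage, hl]

/-- Locality. -/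
theorem eq_zero_of_charts {n : ℕ} {c : Fin n → Chart G}
    (hc : ∀ (B : Type u) [CommRing B] [Algebra R B] (g : pt R B ⟶ G) (p : PrimeSpectrum B),
        ∃ f : B, f ∉ p.asIdeal ∧ ∃ (i : Fin n) (ψ : (c i).A →ₐ[R] Localization.Away f),
          ptMap (IsScalarTower.toAlgHom R B (Localization.Away f)) ≫ g = ptMap ψ ≫ (c i).g)
    (N : Submodule R E) (x : E) (hx : ∀ i, N.mkQ.baseChange (c i).A (m.ρ (c i).A (c i).g (1 ⊗ₜ x)) = 0)
    (B : Type u) [CommRing B] [Algebra R B] (g : pt R B ⟶ G) :
    N.mkQ.baseChange B (m.ρ B g (1 ⊗ₜ x)) = 0 := by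
  refine eq_zero_of_local _ fun p => ?_
  obtain ⟨f, hf, i, ψ, h⟩ := hc B g p
  refine ⟨f, hf, ?_⟩
  have h1 := congrArg (Wmap (M := E ⧸ N) ψ) (hx i)
  rw [Wmap_baseChange, map_zero, m.naturality, Wmap_tmul, map_one, ← h] at h1
  rw [Wmap_baseChange, m.naturality, Wmap_tmul, map_one]
  exact h1

theorem exists_stable [IsNoetherianRing R] [Flat G.hom] [QuasiCompact G.hom] (M : Submodule R E) (hM : M.FG) :
    ∃ N : Submodule R E, M ≤ N ∧ N.FG ∧
      ∀ (B : Type u) [CommRing B] [Algebra R B] (g : pt R B ⟶ G) (x : E), x ∈ N →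
        m.ρ B g ((1 : B) ⊗ₜ[R] x) ∈ LinearMap.range (N.subtype.baseChange B) := by
  classical
  obtain ⟨n, c, hflat, hc⟩ := exists_charts (G := G)
  let L : ∀ i, E →ₗ[R] (c i).A ⊗[R] E := fun i =>
    (m.ρ (c i).A (c i).g).toLinearMap.restrictScalars R ∘ₗ TensorProduct.mk R (c i).A E 1
  obtain ⟨s, rfl⟩ := hM
  choose S hSfg hS using fun (i : Fin n) (x : E) => exists_fg_mem_range (L i x)
  let E₀ : Submodule R E := Submodule.span R ↑s ⊔ s.sup fun x => Finset.univ.sup fun i => S i x
  have hE₀ : E₀.FG := Submodule.FG.sup ⟨s, rfl⟩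
    (Finset.sup_induction Submodule.fg_bot (fun _ ha _ hb => Submodule.FG.sup ha hb)
      fun x _ => Finset.sup_induction Submodule.fg_bot (fun _ ha _ hb => Submodule.FG.sup ha hb) fun i _ => hSfg i x)
  let q : E →ₗ[R] E ⧸ E₀ := E₀.mkQ
  let Φ : E →ₗ[R] (∀ i, (c i).A ⊗[R] (E ⧸ E₀)) :=
    LinearMap.pi fun i => (q.baseChange (c i).A).restrictScalars R ∘ₗ L i
  let N : Submodule R E := E₀ ⊓ LinearMap.ker Φ
  have hmem : ∀ x ∈ N, ∀ i, q.baseChange (c i).A (L i x) = 0 := fun x hx i => congrFun hx.2 i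
  refine ⟨N, ?_, ?_, fun B _ _ g x hx => ?_⟩
  · rw [Submodule.span_le]
    intro x hx
    refine ⟨Submodule.mem_sup_left (Submodule.subset_span hx), funext fun i => hS i x E₀ ?_⟩
    exact le_sup_of_le_right ((Finset.le_sup (f := fun i => S i x) (Finset.mem_univ i)).trans
      (Finset.le_sup (f := fun x => Finset.univ.sup fun i => S i x) hx))
  · haveI : Module.Finite R E₀ := Module.Finite.iff_fg.2 hE₀
    exact Submodule.FG.of_le hE₀ inf_le_left
  rw [mem_range_iff]
  refine eq_zero_of_charts m hc N x (fun i => ?_) B g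
  obtain ⟨z₀, hz₀⟩ := (mem_range_iff E₀ (L i x)).2 (hmem x hx i)
  show N.mkQ.baseChange (c i).A (L i x) = 0
  rw [← mem_range_iff]
  haveI := hflat i
  let Ψ : E₀ →ₗ[R] (∀ j, (c j).A ⊗[R] (E ⧸ E₀)) := Φ ∘ₗ E₀.subtype
  have hΨ : Ψ.lTensor (c i).A z₀ = 0 := by
    apply (TensorProduct.piRight R R (c i).A fun j => (c j).A ⊗[R] (E ⧸ E₀)).injective
    rw [map_zero]
    funext j
    let B' := (c i).A ⊗[R] (c j).A
    let inl : (c i).A →ₐ[R] B' := Algebra.TensorProduct.includeLeft
    let inr : (c j).A →ₐ[R] B' := Algebra.TensorProduct.includeRight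
    let gi : pt R B' ⟶ G := ptMap inl ≫ (c i).g
    let gj : pt R B' ⟶ G := ptMap inr ≫ (c j).g
    let α := TensorProduct.assoc R (c i).A (c j).A (E ⧸ E₀)
    have claim : ∀ z : (c i).A ⊗[R] E₀,
        α (q.baseChange B' (m.ρ B' gj (Wmap (M := E) inl (E₀.subtype.baseChange (c i).A z)))) =
          (TensorProduct.piRight R R (c i).A fun j => (c j).A ⊗[R] (E ⧸ E₀)) (Ψ.lTensor (c i).A z) j := by
      intro z
      induction z using TensorProduct.induction_on with
      | zero => simp
      | add a b ha hb => simp only [map_add, Pi.add_apply, ha, hb]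
      | tmul a e =>
        have e1 : Wmap (M := E) inl (E₀.subtype.baseChange (c i).A (a ⊗ₜ e)) =
            inl a • Wmap (M := E) inr ((1 : (c j).A) ⊗ₜ (e : E)) := by
          simp [TensorProduct.smul_tmul', inl, inr]
        rw [e1, map_smul, ← m.naturality inr (c j).g, map_smul, ← Wmap_baseChange]
        simp only [LinearMap.lTensor_tmul, TensorProduct.piRight_apply, TensorProduct.piRightHom_tmul, Ψ, Φ,
          LinearMap.comp_apply, LinearMap.pi_apply, Submodule.subtype_apply, LinearMap.coe_restrictScalars]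
        show α (inl a • Wmap (M := E ⧸ E₀) inr (q.baseChange (c j).A (L j e))) = _
        generalize q.baseChange (c j).A (L j e) = w
        induction w using TensorProduct.induction_on with
        | zero => simp
        | add u v hu hv => simp only [map_add, smul_add, TensorProduct.tmul_add, hu, hv]
        | tmul b t => simp [α, inl, inr, B', TensorProduct.smul_tmul']
    rw [← claim z₀, hz₀]
    show α _ = 0
    have hi : Wmap (M := E) inl (L i x) = m.ρ B' gi (1 ⊗ₜ x) := by
      show Wmap (M := E) inl (m.ρ (c i).A (c i).g (1 ⊗ₜ x)) = _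
      rw [m.naturality, Wmap_tmul, map_one]
    have hprod : m.ρ B' gj (m.ρ B' gi (1 ⊗ₜ x)) = m.ρ B' (gj * gi) (1 ⊗ₜ x) := by
      rw [map_mul]; rfl
    rw [hi, hprod]
    rw [eq_zero_of_charts m hc E₀ x (hmem x hx) B' (gj * gi), map_zero]
  obtain ⟨w, hw⟩ := (Module.Flat.lTensor_exact (c i).A (LinearMap.exact_subtype_ker_map Ψ) z₀).1 hΨ
  let inc : LinearMap.ker Ψ →ₗ[R] N := (E₀.subtype ∘ₗ (LinearMap.ker Ψ).subtype).codRestrict N
    fun v => ⟨(v : E₀).2, v.2⟩
  refine ⟨inc.baseChange (c i).A w, ?_⟩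
  rw [← hz₀, ← hw]
  clear hw hz₀
  induction w using TensorProduct.induction_on with
  | zero => simp
  | tmul a v => simp [inc]
  | add a b ha hb => simp only [map_add, ha, hb]

end Groth.L15.GModStable
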