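import Groth.Agent.L15.GModStable.Basic
import Mathlib.AlgebraicGeometry.Morphisms.QuasiSeparated
import Mathlib.Topology.Sheaves.SheafCondition.UniqueGluing

/-!
Natural families on affine points of a quasi-compact quasi-separated scheme with values in a flat module come from
global functions.
-/

set_option autoImplicit false
set_option backward.isDefEq.respectTransparency.types false
set_option backward.isDefEq.respectTransparency false
set_option linter.style.haveILetI false

universe u

open CategoryTheory AlgebraicGeometry Opposite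
open scoped TensorProduct
open VecGrp

noncomputable section

namespace Groth.L15.GModStable

variable {R : Type u} [CommRing R] {G : Over (Spec (CommRingCat.of R))}

/-- The structure map on global functions. -/
abbrev glob (G : Over (Spec (CommRingCat.of R))) : R →+* Γ(G.left, ⊤) :=
  ((Scheme.ΓSpecIso (CommRingCat.of R)).inv ≫ G.hom.appTop).hom

/-- Global functions as an algebra. -/
@[instance_reducible] def algTop (G : Over (Spec (CommRingCat.of R))) : Algebra R Γ(G.left, ⊤) := (glob G).toAlgebra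

attribute [local instance] algTop

/-- Functions on an open subscheme as an algebra. -/
@[instance_reducible] def algOpen (U : G.left.Opens) : Algebra R Γ(G.left, U) :=
  ((G.left.presheaf.map (homOfLE le_top).op).hom.comp (glob G)).toAlgebra

/-- Restriction as an algebra map. -/
def resTop (U : G.left.Opens) : letI := algOpen U; Γ(G.left, ⊤) →ₐ[R] Γ(G.left, U) :=
  letI := algOpen U
  AlgHom.mk (G.left.presheaf.map (homOfLE le_top).op).hom fun _ => rfl

/-- Pullback of functions along an affine point. -/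
def pullPt {B : Type u} [CommRing B] [Algebra R B] (g : pt R B ⟶ G) : Γ(G.left, ⊤) →ₐ[R] B :=
  AlgHom.mk (g.left.appTop ≫ (Scheme.ΓSpecIso (CommRingCat.of B)).hom).hom fun r => by
    have h : (Scheme.ΓSpecIso (CommRingCat.of R)).inv ≫ G.hom.appTop ≫ g.left.appTop ≫
        (Scheme.ΓSpecIso (CommRingCat.of B)).hom = CommRingCat.ofHom (algebraMap R B) := by
      rw [← Category.assoc G.hom.appTop, ← Scheme.Hom.comp_appTop, Over.w g]
      show _ ≫ (Spec.map (CommRingCat.ofHom (algebraMap R B))).appTop ≫ _ = _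
      rw [Scheme.ΓSpecIso_naturality, Iso.inv_hom_id_assoc]
    exact congrArg (fun φ => φ.hom r) h

theorem pullPt_comp {B B' : Type u} [CommRing B] [Algebra R B] [CommRing B'] [Algebra R B'] (ψ : B →ₐ[R] B')
    (g : pt R B ⟶ G) : pullPt (ptMap ψ ≫ g) = ψ.comp (pullPt g) := by
  have h : (ptMap ψ ≫ g).left.appTop ≫ (Scheme.ΓSpecIso (CommRingCat.of B')).hom =
      (g.left.appTop ≫ (Scheme.ΓSpecIso (CommRingCat.of B)).hom) ≫ CommRingCat.ofHom ψ.toRingHom := by
    rw [Over.comp_left, ptMap_left, Scheme.Hom.comp_appTop, Category.assoc, Category.assoc]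
    congr 1
    exact Scheme.ΓSpecIso_naturality _
  exact AlgHom.ext fun a => congrArg (fun φ => φ.hom a) h

theorem fromSpec_appTop {U : G.left.Opens} (hU : IsAffineOpen U) :
    hU.fromSpec.appTop ≫ (Scheme.ΓSpecIso Γ(G.left, U)).hom = G.left.presheaf.map (homOfLE le_top).op := by
  rw [Scheme.Hom.appTop, hU.fromSpec_app_of_le ⊤ le_top]
  simp

/-- The chart of an affine open. -/
def openPt {U : G.left.Opens} (hU : IsAffineOpen U) : letI := algOpen U; pt R Γ(G.left, U) ⟶ G :=
  letI := algOpen U
  Over.homMk hU.fromSpec (by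
    refine ext_of_isAffine ?_
    rw [← cancel_mono (Scheme.ΓSpecIso Γ(G.left, U)).hom, Scheme.Hom.comp_appTop, Category.assoc,
      fromSpec_appTop]
    show _ = (Spec.map (CommRingCat.ofHom (algebraMap R Γ(G.left, U)))).appTop ≫ _
    rw [Scheme.ΓSpecIso_naturality, ← cancel_epi (Scheme.ΓSpecIso (CommRingCat.of R)).inv,
      Iso.inv_hom_id_assoc]
    rfl)

theorem pullPt_openPt {U : G.left.Opens} (hU : IsAffineOpen U) :
    letI := algOpen U; pullPt (openPt hU) = resTop U := by
  letI := algOpen U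
  exact AlgHom.ext fun a => congrArg (fun φ => φ.hom a) (fromSpec_appTop hU)

theorem flat_open [Flat G.hom] {U : G.left.Opens} (hU : IsAffineOpen U) :
    letI := algOpen U; Module.Flat R Γ(G.left, U) := by
  letI := algOpen U
  have h : Flat (Spec.map (CommRingCat.ofHom (algebraMap R Γ(G.left, U)))) := by
    have e := Over.w (openPt hU)
    show Flat (pt R Γ(G.left, U)).hom
    rw [← e]
    show Flat (hU.fromSpec ≫ G.hom)
    infer_instance
  exact Flat.SpecMap_iff.1 h

theorem exists_factor_open {U : G.left.Opens} (hU : IsAffineOpen U) {B : Type u} [CommRing B] [Algebra R B]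
    (g : pt R B ⟶ G) (hr : Set.range g.left ⊆ U) :
    letI := algOpen U; ∃ ψ : Γ(G.left, U) →ₐ[R] B, g = ptMap ψ ≫ openPt hU := by
  letI := algOpen U
  let l := IsOpenImmersion.lift hU.fromSpec g.left (by rw [hU.range_fromSpec]; exact hr)
  have hl : l ≫ hU.fromSpec = g.left := IsOpenImmersion.lift_fac _ _ _
  have hc : CommRingCat.ofHom (algebraMap R Γ(G.left, U)) ≫ Spec.preimage l =
      CommRingCat.ofHom (algebraMap R B) := by
    apply Spec.map_injective
    rw [Spec.map_comp, Spec.map_preimage]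
    show l ≫ (pt R Γ(G.left, U)).hom = (pt R B).hom
    rw [← Over.w (openPt hU), ← Over.w g]
    exact (Category.assoc _ _ _).symm.trans (congrArg (· ≫ G.hom) hl)
  refine ⟨AlgHom.mk (Spec.preimage l).hom fun r => congrArg (fun w => w.hom r) hc, Over.OverMorphism.ext ?_⟩
  show g.left = Spec.map (Spec.preimage l) ≫ hU.fromSpec
  rw [Spec.map_preimage, hl]

/-- Restriction between affine opens as an algebra map. -/
def resOpen {U W : G.left.Opens} (h : W ≤ U) :
    letI := algOpen U; letI := algOpen W; Γ(G.left, U) →ₐ[R] Γ(G.left, W) :=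
  letI := algOpen U
  letI := algOpen W
  AlgHom.mk (G.left.presheaf.map (homOfLE h).op).hom fun r => by
    show (G.left.presheaf.map (homOfLE le_top).op ≫ G.left.presheaf.map (homOfLE h).op).hom (glob G r) =
      (G.left.presheaf.map (homOfLE le_top).op).hom (glob G r)
    rw [← Functor.map_comp]
    rfl

theorem ptMap_resOpen {U W : G.left.Opens} (hU : IsAffineOpen U) (hW : IsAffineOpen W) (h : W ≤ U) :
    letI := algOpen U; letI := algOpen W; ptMap (resOpen h) ≫ openPt hU = openPt hW := by
  letI := algOpen U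
  letI := algOpen W
  exact Over.OverMorphism.ext (hU.map_fromSpec hW (homOfLE h).op)

section Glue

variable [CompactSpace G.left] [QuasiSeparatedSpace G.left]

theorem exists_cover (G : Over (Spec (CommRingCat.of R))) [CompactSpace G.left] [QuasiSeparatedSpace G.left] :
    ∃ (n : ℕ) (U : Fin n → G.left.affineOpens), (∀ x : G.left, ∃ a, x ∈ (U a).1) ∧
      ∃ (c : ℕ) (W : Fin c → G.left.affineOpens) (src : Fin c → Fin n × Fin n),
        (∀ l, (W l).1 ≤ (U (src l).1).1 ∧ (W l).1 ≤ (U (src l).2).1) ∧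
          ∀ a b, ∀ x ∈ (U a).1 ⊓ (U b).1, ∃ l, src l = (a, b) ∧ x ∈ (W l).1 := by
  classical
  obtain ⟨s, hs, e⟩ := isCompact_and_isOpen_iff_finite_and_eq_biUnion_affineOpens.mp
    ⟨(isCompact_univ : IsCompact (Set.univ : Set G.left)), isOpen_univ⟩
  haveI := hs.fintype
  let U : Fin (Fintype.card s) → G.left.affineOpens := fun a => ((Fintype.equivFin s).symm a).1
  refine ⟨_, U, fun x => ?_, ?_⟩
  · obtain ⟨V, hV, hx⟩ := Set.mem_iUnion₂.1 (e.le (Set.mem_univ x))
    exact ⟨Fintype.equivFin s ⟨V, hV⟩, by simpa [U] using hx⟩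
  have hq := quasiSeparatedSpace_iff_forall_affineOpens.mp ‹QuasiSeparatedSpace G.left›
  choose t ht et using fun ab : Fin (Fintype.card s) × Fin (Fintype.card s) =>
    isCompact_and_isOpen_iff_finite_and_eq_biUnion_affineOpens.mp
      ⟨hq (U ab.1) (U ab.2), (U ab.1).1.isOpen.inter (U ab.2).1.isOpen⟩
  haveI := fun ab => (ht ab).fintype
  let T := Σ ab, t ab
  refine ⟨Fintype.card T, fun l => ((Fintype.equivFin T).symm l).2.1, fun l => ((Fintype.equivFin T).symm l).1,
    fun l => ?_, fun a b x hx => ?_⟩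
  · have h : ∀ x ∈ (((Fintype.equivFin T).symm l).2.1 : G.left.affineOpens).1,
        x ∈ ((U ((Fintype.equivFin T).symm l).1.1).1 : Set G.left) ∩ (U ((Fintype.equivFin T).symm l).1.2).1 :=
      fun x hx => (et _).ge (Set.mem_iUnion₂.2 ⟨_, ((Fintype.equivFin T).symm l).2.2, hx⟩)
    exact ⟨fun x hx => (h x hx).1, fun x hx => (h x hx).2⟩
  · obtain ⟨V, hV, hxV⟩ := Set.mem_iUnion₂.1 ((et (a, b)).le hx)
    refine ⟨Fintype.equivFin T ⟨(a, b), ⟨V, hV⟩⟩, ?_, ?_⟩
    · simp
    · show x ∈ (((Fintype.equivFin T).symm (Fintype.equivFin T ⟨(a, b), ⟨V, hV⟩⟩)).2.1 : G.left.affineOpens).1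
      rw [Equiv.symm_apply_apply]
      exact hxV

variable {Q : Type u} [AddCommGroup Q] [Module R Q] [Module.Flat R Q]

/-- Vanishing on the affine opens of a cover implies vanishing. -/
theorem exists_global (w : ∀ (B : Type u) [CommRing B] [Algebra R B], (pt R B ⟶ G) → B ⊗[R] Q)
    (hw : ∀ (B B' : Type u) [CommRing B] [Algebra R B] [CommRing B'] [Algebra R B'] (ψ : B →ₐ[R] B')
      (g : pt R B ⟶ G), Wmap (M := Q) ψ (w B g) = w B' (ptMap ψ ≫ g)) :
    ∃ z : Γ(G.left, ⊤) ⊗[R] Q, ∀ (B : Type u) [CommRing B] [Algebra R B] (g : pt R B ⟶ G),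
      Wmap (M := Q) (pullPt g) z = w B g := by
  classical
  obtain ⟨n, U, hcov, c, W, src, hle, hov⟩ := exists_cover G
  letI aU : ∀ a, Algebra R Γ(G.left, (U a).1) := fun a => algOpen _
  letI aW : ∀ l, Algebra R Γ(G.left, (W l).1) := fun l => algOpen _
  let F := ∀ a, Γ(G.left, (U a).1)
  let ι : Γ(G.left, ⊤) →ₗ[R] F := LinearMap.pi fun a => (resTop (U a).1).toLinearMap
  let δ : F →ₗ[R] (∀ l, Γ(G.left, (W l).1)) := LinearMap.pi fun l =>
    (resOpen (hle l).1).toLinearMap ∘ₗ LinearMap.proj (R := R) (φ := fun a => Γ(G.left, (U a).1)) (src l).1 -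
      (resOpen (hle l).2).toLinearMap ∘ₗ LinearMap.proj (R := R) (φ := fun a => Γ(G.left, (U a).1)) (src l).2
  have htop : (⊤ : G.left.Opens) ≤ ⨆ a, (U a).1 := fun x _ => TopologicalSpace.Opens.mem_iSup.2 (hcov x)
  have hexact : Function.Exact ι δ := by
    intro f
    constructor
    · intro hf
      obtain ⟨s, hs, -⟩ := G.left.sheaf.existsUnique_gluing' (fun a => (U a).1) ⊤ (fun a => homOfLE le_top)
        htop f (fun a b => by
          refine G.left.sheaf.eq_of_locally_eq' (fun l : {l // src l = (a, b)} => (W l.1).1) _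
            (fun l => homOfLE (le_inf (by have := (hle l.1).1; rwa [l.2] at this)
              (by have := (hle l.1).2; rwa [l.2] at this)))
            (fun x hx => by
              obtain ⟨l, hl, hxl⟩ := hov a b x hx
              exact TopologicalSpace.Opens.mem_iSup.2 ⟨⟨l, hl⟩, hxl⟩) _ _ fun l => ?_
          obtain ⟨l, hl⟩ := l
          have h := congrFun hf l
          obtain ⟨rfl, rfl⟩ := Prod.ext_iff.1 hl
          rw [← ConcreteCategory.comp_apply, ← ConcreteCategory.comp_apply, ← Functor.map_comp, ← Functor.map_comp]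
          exact sub_eq_zero.1 h)
      exact ⟨s, funext fun a => hs a⟩
    · rintro ⟨s, rfl⟩
      funext l
      refine sub_eq_zero.2 ?_
      show ((G.left.presheaf.map _) ≫ G.left.presheaf.map _).hom s =
        ((G.left.presheaf.map _) ≫ G.left.presheaf.map _).hom s
      rw [← Functor.map_comp, ← Functor.map_comp]
      rfl
  let y : F ⊗[R] Q := ∑ a, (LinearMap.single R (fun a => Γ(G.left, (U a).1)) a).rTensor Q
    (w Γ(G.left, (U a).1) (openPt (U a).2))
  have hy : ∀ b, (LinearMap.proj (R := R) (φ := fun a => Γ(G.left, (U a).1)) b).rTensor Q y =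
      w Γ(G.left, (U b).1) (openPt (U b).2) := fun b => by
    rw [map_sum, Finset.sum_eq_single b (fun a _ hab => ?_) (by simp)]
    · rw [← LinearMap.rTensor_comp_apply, LinearMap.proj_comp_single_same, LinearMap.rTensor_id_apply]
    · rw [← LinearMap.rTensor_comp_apply, LinearMap.proj_comp_single_ne R _ b a (Ne.symm hab), LinearMap.rTensor_zero,
        LinearMap.zero_apply]
  have hjoint : ∀ {M : Fin c → Type u} [∀ l, AddCommGroup (M l)] [∀ l, Module R (M l)] (t : (∀ l, M l) ⊗[R] Q),
      (∀ l, (LinearMap.proj (R := R) (φ := M) l).rTensor Q t = 0) → t = 0 := fun {M} _ _ t ht => by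
    have e : t = ∑ l, (LinearMap.single R M l).rTensor Q ((LinearMap.proj (R := R) (φ := M) l).rTensor Q t) := by
      clear ht
      induction t using TensorProduct.induction_on with
      | zero => simp
      | tmul f q =>
        simp only [LinearMap.rTensor_tmul, ← TensorProduct.sum_tmul, LinearMap.proj_apply, LinearMap.coe_single]
        rw [Finset.univ_sum_single]
      | add a b ha hb => simp only [map_add, Finset.sum_add_distrib, ← ha, ← hb]
    rw [e]
    simp [ht]
  have hδy : δ.rTensor Q y = 0 := hjoint _ fun l => by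
    rw [← LinearMap.rTensor_comp_apply, LinearMap.proj_pi, LinearMap.rTensor_sub, LinearMap.sub_apply,
      LinearMap.rTensor_comp_apply, LinearMap.rTensor_comp_apply, hy, hy]
    show Wmap (M := Q) _ _ - Wmap (M := Q) _ _ = 0
    rw [hw, hw, ptMap_resOpen _ (W l).2, ptMap_resOpen _ (W l).2, sub_self]
  obtain ⟨z, hz⟩ := (Module.Flat.rTensor_exact Q hexact y).1 hδy
  have hza : ∀ a, Wmap (M := Q) (resTop (U a).1) z = w Γ(G.left, (U a).1) (openPt (U a).2) := fun a => by
    rw [← hy a, ← hz, ← LinearMap.rTensor_comp_apply, LinearMap.proj_pi]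
    rfl
  refine ⟨z, fun B _ _ g => sub_eq_zero.1 (eq_zero_of_local _ fun p => ?_)⟩
  obtain ⟨a, ha⟩ := hcov (g.left p)
  obtain ⟨_, ⟨f, rfl⟩, hpf, hfU⟩ :=
    (PrimeSpectrum.isTopologicalBasis_basic_opens (R := B)).exists_subset_of_mem_open
      (show (p : Spec (CommRingCat.of B)) ∈ g.left ⁻¹' (U a).1 from ha) ((U a).1.isOpen.preimage g.left.continuous)
  refine ⟨f, hpf, ?_⟩
  let ℓ := IsScalarTower.toAlgHom R B (Localization.Away f)
  have hr : Set.range (ptMap ℓ ≫ g).left ⊆ (U a).1 := by
    rintro _ ⟨q, rfl⟩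
    have h1 : (Spec.map (CommRingCat.ofHom (algebraMap B (Localization.Away f)))).base q ∈
        (PrimeSpectrum.basicOpen f : Set (PrimeSpectrum B)) := by
      have := PrimeSpectrum.localization_away_comap_range (Localization.Away f) f
      exact this.le ⟨q, rfl⟩
    exact hfU h1
  obtain ⟨ψ, hψ⟩ := exists_factor_open (U a).2 _ hr
  have e : ℓ.comp (pullPt g) = ψ.comp (resTop (U a).1) := by
    rw [← pullPt_comp, hψ, pullPt_comp, pullPt_openPt]
  rw [map_sub, hw, hψ, ← hw, ← hza a, sub_eq_zero]
  show (ℓ.toLinearMap.rTensor Q) ((pullPt g).toLinearMap.rTensor Q z) =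
    (ψ.toLinearMap.rTensor Q) ((resTop (U a).1).toLinearMap.rTensor Q z)
  rw [← LinearMap.rTensor_comp_apply, ← LinearMap.rTensor_comp_apply, ← AlgHom.comp_toLinearMap,
    ← AlgHom.comp_toLinearMap, e]

/-- Elements with values in a flat module vanishing on all affine points vanish. -/
theorem eq_zero_of_pullPt (z : Γ(G.left, ⊤) ⊗[R] Q)
    (hz : ∀ (U : G.left.affineOpens), letI := algOpen U.1; Wmap (M := Q) (resTop U.1) z = 0) : z = 0 := by
  classical
  obtain ⟨n, U, hcov, -⟩ := exists_cover G
  letI aU : ∀ a, Algebra R Γ(G.left, (U a).1) := fun a => algOpen _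
  let ι : Γ(G.left, ⊤) →ₗ[R] (∀ a, Γ(G.left, (U a).1)) := LinearMap.pi fun a => (resTop (U a).1).toLinearMap
  have hι : Function.Injective ι := fun s t h =>
    G.left.sheaf.eq_of_locally_eq' (fun a => (U a).1) ⊤ (fun a => homOfLE le_top)
      (fun x _ => TopologicalSpace.Opens.mem_iSup.2 (hcov x)) s t fun a => congrFun h a
  apply Module.Flat.rTensor_preserves_injective_linearMap (M := Q) ι hι
  rw [map_zero]
  have e : ∀ t : (∀ a, Γ(G.left, (U a).1)) ⊗[R] Q, t = ∑ a, (LinearMap.single R _ a).rTensor Q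
      ((LinearMap.proj (R := R) (φ := fun a => Γ(G.left, (U a).1)) a).rTensor Q t) := fun t => by
    induction t using TensorProduct.induction_on with
    | zero => simp
    | tmul f q =>
      simp only [LinearMap.rTensor_tmul, ← TensorProduct.sum_tmul, LinearMap.proj_apply, LinearMap.coe_single]
      rw [Finset.univ_sum_single]
    | add a b ha hb => simp only [map_add, Finset.sum_add_distrib, ← ha, ← hb]
  rw [e (ι.rTensor Q z)]
  refine Finset.sum_eq_zero fun a _ => ?_
  have h1 : (LinearMap.proj (R := R) (φ := fun a => Γ(G.left, (U a).1)) a).rTensor Q (ι.rTensor Q z) = 0 := by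
    rw [← LinearMap.rTensor_comp_apply, LinearMap.proj_pi]
    exact hz (U a)
  rw [h1, map_zero]

end Glue

end Groth.L15.GModStable
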