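import Groth.Agent.L15.GModStable.Glue
import Mathlib.Algebra.Module.Projective
import Mathlib.RingTheory.Flat.Stability

/-!
A finitely generated submodule of a flat module with an action of a flat quasi-compact quasi-separated group scheme
with projective ring of functions is contained in a finitely generated stable one.
-/

set_option autoImplicit false
set_option backward.isDefEq.respectTransparency.types false
set_option backward.isDefEq.respectTransparency false
set_option linter.style.haveILetI false

universe u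

open CategoryTheory MonoidalCategory CartesianMonoidalCategory MonObj AlgebraicGeometry
open scoped TensorProduct
open VecGrp

noncomputable section

namespace Groth.L15.GModStable

variable {R : Type u} [CommRing R]

theorem ptMap_comp {B B' B'' : Type u} [CommRing B] [Algebra R B] [CommRing B'] [Algebra R B']
    [CommRing B''] [Algebra R B''] (φ : B →ₐ[R] B') (ψ : B' →ₐ[R] B'') :
    ptMap (ψ.comp φ) = ptMap ψ ≫ ptMap φ := by
  refine Over.OverMorphism.ext ?_
  show Spec.map _ = Spec.map _ ≫ Spec.map _
  rw [← Spec.map_comp]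
  rfl

/-- Evaluation of a functional on the first factor. -/
def T {A : Type u} [AddCommGroup A] [Module R A] (φ : A →ₗ[R] R) (M : Type u) [AddCommGroup M] [Module R M] :
    A ⊗[R] M →ₗ[R] M :=
  (TensorProduct.lid R M).toLinearMap ∘ₗ φ.rTensor M

@[simp] theorem T_tmul {A : Type u} [AddCommGroup A] [Module R A] (φ : A →ₗ[R] R) {M : Type u} [AddCommGroup M]
    [Module R M] (a : A) (x : M) : T φ M (a ⊗ₜ x) = φ a • x := by
  simp [T]

theorem T_lTensor {A : Type u} [AddCommGroup A] [Module R A] (φ : A →ₗ[R] R) {M M' : Type u} [AddCommGroup M]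
    [Module R M] [AddCommGroup M'] [Module R M'] (f : M →ₗ[R] M') (z : A ⊗[R] M) :
    f (T φ M z) = T φ M' (f.lTensor A z) := by
  induction z using TensorProduct.induction_on with
  | zero => simp
  | tmul a x => simp
  | add a b ha hb => simp only [map_add, ha, hb]

theorem T_assoc {A : Type u} [AddCommGroup A] [Module R A] (φ : A →ₗ[R] R) {B E : Type u} [AddCommGroup B]
    [Module R B] [AddCommGroup E] [Module R E] (d : A ⊗[R] B) (q : E) :
    T φ (B ⊗[R] E) (TensorProduct.assoc R A B E (d ⊗ₜ q)) = T φ B d ⊗ₜ q := by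
  induction d using TensorProduct.induction_on with
  | zero => simp
  | tmul a b => simp [TensorProduct.smul_tmul']
  | add a b ha hb => simp only [TensorProduct.add_tmul, map_add, ha, hb]

variable {G : Over (Spec (CommRingCat.of R))} [GrpObj G]
variable {E : Type u} [AddCommGroup E] [Module R E] (m : GMod G E)

/-- The orbit map of a point. -/
abbrev orb (B : Type u) [CommRing B] [Algebra R B] (g : pt R B ⟶ G) : E →ₗ[R] B ⊗[R] E :=
  (m.ρ B g).toLinearMap.restrictScalars R ∘ₗ TensorProduct.mk R B E 1

theorem orb_natural {B B' : Type u} [CommRing B] [Algebra R B] [CommRing B'] [Algebra R B'] (φ : B →ₐ[R] B')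
    (g : pt R B ⟶ G) (x : E) : Wmap (M := E) φ (orb m B g x) = orb m B' (ptMap φ ≫ g) x := by
  show Wmap (M := E) φ (m.ρ B g (1 ⊗ₜ x)) = m.ρ B' (ptMap φ ≫ g) (1 ⊗ₜ x)
  rw [m.naturality, Wmap_tmul, map_one]

theorem assoc_lTensor_orb {C B : Type u} [CommRing C] [Algebra R C] [CommRing B] [Algebra R B]
    (g : pt R B ⟶ G) (w : C ⊗[R] E) :
    (TensorProduct.assoc R C B E).symm ((orb m B g).lTensor C w) =
      m.ρ (C ⊗[R] B) (ptMap Algebra.TensorProduct.includeRight ≫ g)
        (Wmap (M := E) Algebra.TensorProduct.includeLeft w) := by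
  induction w using TensorProduct.induction_on with
  | zero => simp
  | add a b ha hb => simp only [map_add, ha, hb]
  | tmul a e =>
    let inl : C →ₐ[R] C ⊗[R] B := Algebra.TensorProduct.includeLeft
    let inr : B →ₐ[R] C ⊗[R] B := Algebra.TensorProduct.includeRight
    have e1 : Wmap (M := E) inl (a ⊗ₜ e) = inl a • Wmap (M := E) inr ((1 : B) ⊗ₜ e) := by
      simp [TensorProduct.smul_tmul', inl, inr]
    rw [e1, map_smul, ← m.naturality inr g, LinearMap.lTensor_tmul]
    show _ = inl a • Wmap (M := E) inr (orb m B g e)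
    generalize orb m B g e = v
    induction v using TensorProduct.induction_on with
    | zero => simp
    | add u v hu hv => simp only [map_add, smul_add, TensorProduct.tmul_add, hu, hv]
    | tmul b t => simp [inl, inr, TensorProduct.smul_tmul']

theorem Wmap_assoc {A C B : Type u} [CommRing A] [Algebra R A] [CommRing C] [Algebra R C] [CommRing B]
    [Algebra R B] (r : A →ₐ[R] C) (d : A ⊗[R] B) (q : E) :
    (TensorProduct.assoc R C B E).symm (Wmap (M := B ⊗[R] E) r (TensorProduct.assoc R A B E (d ⊗ₜ q))) =
      Wmap (M := B) r d ⊗ₜ q := by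
  induction d using TensorProduct.induction_on with
  | zero => simp
  | tmul a b => simp
  | add a b ha hb => simp only [TensorProduct.add_tmul, map_add, ha, hb]

attribute [local instance] algTop

/-- A stable finitely generated submodule containing one element. -/
theorem exists_stable_single [Flat G.hom] [QuasiCompact G.hom] [QuasiSeparated G.hom] [Module.Flat R E]
    [Module.Projective R Γ(G.left, ⊤)] (x : E) :
    ∃ N : Submodule R E, x ∈ N ∧ N.FG ∧
      ∀ (B : Type u) [CommRing B] [Algebra R B] (g : pt R B ⟶ G), ∀ y ∈ N,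
        m.ρ B g ((1 : B) ⊗ₜ[R] y) ∈ LinearMap.range (N.subtype.baseChange B) := by
  classical
  haveI : CompactSpace G.left := QuasiCompact.compactSpace_of_compactSpace G.hom
  haveI : QuasiSeparatedSpace G.left := quasiSeparatedSpace_of_quasiSeparated G.hom
  obtain ⟨z, hz⟩ := exists_global (Q := E) (fun B _ _ g => orb m B g x)
    (fun B B' _ _ _ _ ψ g => orb_natural m ψ g x)
  obtain ⟨s, hs⟩ := Module.Projective.out (R := R) (P := Γ(G.left, ⊤))
  let φ : Γ(G.left, ⊤) → (Γ(G.left, ⊤) →ₗ[R] R) := fun a => Finsupp.lapply a ∘ₗ s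
  have hS : ∀ z : Γ(G.left, ⊤) ⊗[R] E, ∃ S : Finset Γ(G.left, ⊤), ∀ S', S ⊆ S' →
      z = ∑ a ∈ S', a ⊗ₜ[R] T (φ a) E z := fun z => by
    induction z using TensorProduct.induction_on with
    | zero => exact ⟨∅, fun _ _ => by simp⟩
    | tmul c q =>
      refine ⟨(s c).support, fun S' h => ?_⟩
      simp only [T_tmul, φ, LinearMap.comp_apply, Finsupp.lapply_apply, TensorProduct.tmul_smul,
        TensorProduct.smul_tmul']
      rw [← TensorProduct.sum_tmul]
      congr 1
      refine (hs c).symm.trans ?_
      rw [Finsupp.linearCombination_apply]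
      exact Finsupp.sum_of_support_subset _ h _ (fun a _ => zero_smul R a)
    | add a b ha hb =>
      obtain ⟨S, hS⟩ := ha
      obtain ⟨S₁, hS₁⟩ := hb
      refine ⟨S ∪ S₁, fun S' h => ?_⟩
      simp only [map_add, TensorProduct.tmul_add, Finset.sum_add_distrib,
        ← hS S' (Finset.union_subset_left h), ← hS₁ S' (Finset.union_subset_right h)]
  obtain ⟨S, hS⟩ := hS z
  let e : Γ(G.left, ⊤) → E := fun a => T (φ a) E z
  have hze : z = ∑ a ∈ S, a ⊗ₜ[R] e a := hS S subset_rfl
  let N : Submodule R E := Submodule.span R ↑(insert x (S.image e))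
  have hxN : x ∈ N := Submodule.subset_span (Finset.mem_insert_self _ _)
  have heN : ∀ a ∈ S, e a ∈ N := fun a ha =>
    Submodule.subset_span (Finset.mem_insert_of_mem (Finset.mem_image_of_mem e ha))
  refine ⟨N, hxN, ⟨_, rfl⟩, ?_⟩
  have hx : ∀ (B : Type u) [CommRing B] [Algebra R B] (g : pt R B ⟶ G),
      orb m B g x ∈ LinearMap.range (N.subtype.baseChange B) := fun B _ _ g => by
    rw [← hz B g, hze, map_sum]
    refine Submodule.sum_mem _ fun a ha => ⟨pullPt g a ⊗ₜ ⟨e a, heN a ha⟩, ?_⟩
    simp
  obtain ⟨n, c, hflat, hc⟩ := exists_charts (G := G)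
  have hcoef : ∀ a ∈ S, ∀ i, N.mkQ.baseChange (c i).A (m.ρ (c i).A (c i).g (1 ⊗ₜ e a)) = 0 := fun a _ i => by
    let B := (c i).A
    let g := (c i).g
    haveI : Module.Flat R B := hflat i
    rw [← mem_range_iff]
    show orb m B g (e a) ∈ _
    rw [show orb m B g (e a) = T (φ a) _ ((orb m B g).lTensor Γ(G.left, ⊤) z) from T_lTensor _ _ _]
    choose d hd using fun b : Γ(G.left, ⊤) => exists_global (G := G) (Q := B)
      (fun C _ _ h => pullPt ((ptMap (Algebra.TensorProduct.includeRight : B →ₐ[R] C ⊗[R] B) ≫ g) *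
        (ptMap (Algebra.TensorProduct.includeLeft : C →ₐ[R] C ⊗[R] B) ≫ h)) b)
      (fun C C' _ _ _ _ ψ h => by
        let Ψ : C ⊗[R] B →ₐ[R] C' ⊗[R] B := Algebra.TensorProduct.map ψ (AlgHom.id R B)
        have e1 : Ψ.comp (Algebra.TensorProduct.includeRight : B →ₐ[R] C ⊗[R] B) =
            Algebra.TensorProduct.includeRight := AlgHom.ext fun b => by simp [Ψ]
        have e2 : Ψ.comp (Algebra.TensorProduct.includeLeft : C →ₐ[R] C ⊗[R] B) =
            Algebra.TensorProduct.includeLeft.comp ψ := AlgHom.ext fun b => by simp [Ψ]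
        have e3 : ∀ y, Wmap (M := B) ψ y = Ψ y := fun y => by
          induction y using TensorProduct.induction_on with
          | zero => simp
          | tmul c b => simp [Ψ]
          | add u v hu hv => simp only [map_add, hu, hv]
        rw [e3, ← AlgHom.comp_apply, ← pullPt_comp, MonObj.comp_mul, ← Category.assoc (ptMap Ψ),
          ← Category.assoc (ptMap Ψ), ← ptMap_comp, ← ptMap_comp, e1, e2, ptMap_comp, Category.assoc])
    have hu : (orb m B g).lTensor Γ(G.left, ⊤) z =
        ∑ b ∈ S, TensorProduct.assoc R _ _ _ (d b ⊗ₜ[R] e b) := by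
      refine sub_eq_zero.1 (eq_zero_of_pullPt _ fun U => ?_)
      letI := algOpen U.1
      rw [map_sub, sub_eq_zero]
      apply (TensorProduct.assoc R Γ(G.left, U.1) B E).symm.injective
      rw [show Wmap (M := B ⊗[R] E) (resTop U.1) ((orb m B g).lTensor Γ(G.left, ⊤) z) =
          (orb m B g).lTensor Γ(G.left, U.1) (Wmap (M := E) (resTop U.1) z) by
        show (resTop U.1).toLinearMap.rTensor (B ⊗[R] E) ((orb m B g).lTensor Γ(G.left, ⊤) z) =
          (orb m B g).lTensor Γ(G.left, U.1) ((resTop U.1).toLinearMap.rTensor E z)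
        rw [← LinearMap.comp_apply, ← LinearMap.comp_apply, LinearMap.rTensor_comp_lTensor,
          LinearMap.lTensor_comp_rTensor]]
      rw [assoc_lTensor_orb, ← pullPt_openPt U.2, hz, orb_natural]
      show m.ρ _ _ (m.ρ _ _ (1 ⊗ₜ x)) = _
      have hprod : ∀ {C : Type u} [CommRing C] [Algebra R C] (gj gi : pt R C ⟶ G) (y : C ⊗[R] E),
          m.ρ C gj (m.ρ C gi y) = m.ρ C (gj * gi) y := fun gj gi y => by
        rw [map_mul]; rfl
      rw [hprod]
      show orb m _ _ x = _
      rw [← hz, map_sum, map_sum]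
      conv_lhs => rw [hze, map_sum]
      refine Finset.sum_congr rfl fun b _ => ?_
      rw [Wmap_assoc, Wmap_tmul, hd]
    rw [hu, map_sum]
    refine Submodule.sum_mem _ fun b hb => ?_
    rw [T_assoc]
    exact ⟨T (φ a) B (d b) ⊗ₜ ⟨e b, heN b hb⟩, by simp⟩
  intro B _ _ g y hy
  induction hy using Submodule.span_induction with
  | mem y hy =>
    obtain rfl | hy := Finset.mem_insert.1 (Finset.mem_coe.1 hy)
    · exact hx B g
    obtain ⟨a, ha, rfl⟩ := Finset.mem_image.1 hy
    rw [mem_range_iff]
    exact eq_zero_of_charts m hc N (e a) (hcoef a ha) B g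
  | zero => simp
  | add u v _ _ hu hv =>
    rw [TensorProduct.tmul_add, map_add]
    exact add_mem hu hv
  | smul r u _ hu =>
    have e : (1 : B) ⊗ₜ[R] (r • u) = algebraMap R B r • ((1 : B) ⊗ₜ[R] u) := by
      rw [algebraMap_smul, TensorProduct.tmul_smul]
    rw [e, map_smul]
    exact Submodule.smul_mem _ _ hu

/-- A stable finitely generated submodule containing a given one. -/
theorem exists_stable_projective [Flat G.hom] [QuasiCompact G.hom] [QuasiSeparated G.hom] [Module.Flat R E]
    [Module.Projective R Γ(G.left, ⊤)] (M : Submodule R E) (hM : M.FG) :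
    ∃ N : Submodule R E, M ≤ N ∧ N.FG ∧
      ∀ (B : Type u) [CommRing B] [Algebra R B] (g : pt R B ⟶ G) (x : E), x ∈ N →
        m.ρ B g ((1 : B) ⊗ₜ[R] x) ∈ LinearMap.range (N.subtype.baseChange B) := by
  classical
  obtain ⟨s, rfl⟩ := hM
  choose N hN hfg hst using fun x : E => exists_stable_single m x
  refine ⟨s.sup N, Submodule.span_le.2 fun x hx => Finset.le_sup (f := N) hx (hN x),
    Finset.sup_induction Submodule.fg_bot (fun _ ha _ hb => ha.sup hb) fun x _ => hfg x, fun B _ _ g y hy => ?_⟩
  have hmono : ∀ {P P' : Submodule R E}, P ≤ P' →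
      LinearMap.range (P.subtype.baseChange B) ≤ LinearMap.range (P'.subtype.baseChange B) := fun {P P'} h => by
    rw [← Submodule.subtype_comp_inclusion P P' h, LinearMap.baseChange_comp]
    exact LinearMap.range_comp_le_range _ _
  rw [Finset.sup_eq_iSup] at hy ⊢
  induction hy using Submodule.iSup_induction' with
  | mem x y hy =>
    induction hy using Submodule.iSup_induction' with
    | mem hx y hy => exact hmono (le_iSup₂_of_le x hx le_rfl) (hst x B g y hy)
    | zero => simp
    | add u v _ _ hu hv =>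
      rw [TensorProduct.tmul_add, map_add]
      exact add_mem hu hv
  | zero => simp
  | add u v _ _ hu hv =>
    rw [TensorProduct.tmul_add, map_add]
    exact add_mem hu hv

end Groth.L15.GModStable
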